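import Cfsg.Agent.H443.PC.Defs
import Cfsg.Agent.Tits.Generic

/-!
# The rotation of a hexagon in a residue of type `A₂` (helper969; S3876, P5)

`three_dvd` : `S : FixBN.Sys`, `U x ≤ K`, `M i j = 3`, elements `h` of `K` with `δ x (h x) = s_i` and `= s_j`: `3 ∣ |K|`.
-/

set_option autoImplicit false
set_option linter.unusedSectionVars false

namespace Cfsg.Agent.H969.Rot

open Cfsg Cfsg.Agent.Tits.Core Cfsg.Agent.Tits.Core.Bldg Cfsg.Agent.Tits
open CoxeterSystem Cfsg.Agent.FixBN

section cox

variable {I : Type*} {M : CoxeterMatrix I} {W : Type*} [Group W] (cs : CoxeterSystem M W) [F : OppRes.Cox cs]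

local prefix:100 "ℓ" => cs.length

theorem ne_one {i j : I} (hij : i ≠ j) : cs.simple i * cs.simple j ≠ 1 := by
  intro h
  apply hij
  apply F.inj
  have h1 := eq_inv_of_mul_eq_one_left h
  rwa [cs.inv_simple] at h1

theorem length_two {i j : I} (hij : i ≠ j) : ℓ (cs.simple i * cs.simple j) = 2 := by
  rcases cs.length_mul_simple (cs.simple i) j with h | h
  · rw [h, cs.length_simple]
  · rw [cs.length_simple] at h
    exact absurd (cs.length_eq_zero_iff.1 (by omega)) (ne_one cs hij)

theorem length_three {i j : I} (hij : i ≠ j) (hm : M i j = 3) :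
    ℓ (cs.simple i * cs.simple j * cs.simple i) = 3 := by
  rcases cs.length_mul_simple (cs.simple i * cs.simple j) i with h | h
  · rw [h, length_two cs hij]
  · exfalso
    rw [length_two cs hij] at h
    have hmem : cs.simple i * cs.simple j * cs.simple i ∈ WJ cs {i, j} :=
      mul_mem (mul_mem (Exchange.simple_mem_WJ cs (by simp)) (Exchange.simple_mem_WJ cs (by simp)))
        (Exchange.simple_mem_WJ cs (by simp))
    rcases Generic.mem_two cs hmem (by omega) with h1 | h1
    · have h2 : cs.simple i * cs.simple j = 1 := by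
        have := congrArg (· * cs.simple i) h1
        simpa [mul_assoc] using this
      exact ne_one cs hij h2
    · have h2 : (cs.simple i * cs.simple j) ^ 2 = 1 := by
        have := congrArg (· * cs.simple j) h1
        rw [pow_two, ← mul_assoc]
        simpa using this
      have h3 := cs.simple_mul_simple_pow i j
      rw [hm, pow_succ, h2, one_mul] at h3
      exact ne_one cs hij h3

end cox

variable {I : Type*} {M : CoxeterMatrix I} {W : Type*} [Group W] {cs : CoxeterSystem M W} {C : Type*}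
  {Δ : Bldg cs C} {G : Type*} [Group G] [MulAction G C] {p : ℕ} [F : OppRes.Cox cs] (S : Sys Δ G p)
  {K : Subgroup G} {x : C} {i j : I}

include S

/-- the orbit of `x` under `K` contains with `y` the panels of type `i` -/
theorem orbit_step (hK : S.U x ≤ K) (hi : ∃ h ∈ K, Δ.δ x (h • x) = cs.simple i) {k : G} (hk : k ∈ K) {z : C}
    (hz : Δ.δ (k • x) z = cs.simple i) : ∃ k' ∈ K, k' • x = z := by
  obtain ⟨h, hh, hδ⟩ := hi
  have h1 : Δ.δ (k • x) ((k * h) • x) = Δ.δ (k • x) z := by
    rw [mul_smul, S.iso, hδ, hz]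
  obtain ⟨u, hu, huz⟩ := S.exists_move h1
  have hu' : u ∈ K := by
    have e : u = k * (k⁻¹ * u * k) * k⁻¹ := by group
    have h2 : k⁻¹ * u * k ∈ S.U x := by
      rw [← S.conj_mem_U_iff (g := k), ← e]
      exact hu
    rw [e]
    exact K.mul_mem (K.mul_mem hk (hK h2)) (K.inv_mem hk)
  exact ⟨u * (k * h), K.mul_mem hu' (K.mul_mem hk hh), by rw [mul_smul, huz]⟩

/-- **The rotation lemma.** -/
theorem three_dvd [Finite G] (hK : S.U x ≤ K) (hij : M i j = 3)
    (hi : ∃ h ∈ K, Δ.δ x (h • x) = cs.simple i) (hj : ∃ h ∈ K, Δ.δ x (h • x) = cs.simple j) :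
    3 ∣ Nat.card K := by
  have hne : i ≠ j := by
    rintro rfl
    rw [M.diagonal] at hij
    omega
  have hji : M j i = 3 := by rw [M.symmetric]; exact hij
  have l2 := length_two cs hne
  have l2' := length_two cs hne.symm
  have l3 := length_three cs hne hij
  have l3' := length_three cs hne.symm hji
  have hbr := Generic.braid_three cs hij
  -- the hexagon
  obtain ⟨a1, ha1⟩ := Δ.exists_δ x (cs.simple i)
  obtain ⟨a2, ha2⟩ := Δ.exists_δ a1 (cs.simple j)
  obtain ⟨x3, hx3⟩ := Δ.exists_δ a2 (cs.simple i)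
  have h02 : Δ.δ x a2 = cs.simple i * cs.simple j :=
    Δ.δ_mul_of ha1 ha2 (by rw [l2, cs.length_simple, cs.length_simple])
  have h03 : Δ.δ x x3 = cs.simple i * cs.simple j * cs.simple i :=
    Δ.δ_mul_of h02 hx3 (by rw [l3, l2, cs.length_simple])
  obtain ⟨b2, hb2, hb2x⟩ : ∃ b2, Δ.δ x b2 = cs.simple j * cs.simple i ∧ Δ.δ b2 x3 = cs.simple j :=
    Δ.exists_between (by rw [h03, hbr]) (by rw [← hbr, l3, l2', cs.length_simple])
  obtain ⟨b1, hb1, hb1b⟩ : ∃ b1, Δ.δ x b1 = cs.simple j ∧ Δ.δ b1 b2 = cs.simple i :=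
    Δ.exists_between hb2 (by rw [l2', cs.length_simple, cs.length_simple])
  have sym : ∀ {y z : C} {k : I}, Δ.δ y z = cs.simple k → Δ.δ z y = cs.simple k := by
    intro y z k h
    rw [Δ.symm, h, cs.inv_simple]
  have h2b : Δ.δ a2 b2 = cs.simple i * cs.simple j :=
    Δ.δ_mul_of hx3 (sym hb2x) (by rw [l2, cs.length_simple, cs.length_simple])
  have h2b1 : Δ.δ a2 b1 = cs.simple i * cs.simple j * cs.simple i :=
    Δ.δ_mul_of h2b (sym hb1b) (by rw [l3, l2, cs.length_simple])
  -- `a2` is in the orbit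
  obtain ⟨k1, hk1, hk1x⟩ := orbit_step S hK hi (k := 1) K.one_mem (z := a1) (by rw [one_smul]; exact ha1)
  obtain ⟨k2, hk2, hk2x⟩ := orbit_step S hK hj hk1 (z := a2) (by rw [hk1x]; exact ha2)
  -- the rotation
  have hmv : Δ.δ a2 (k2 • x3) = Δ.δ a2 b1 := by
    rw [h2b1, ← h03, ← S.iso k2 x x3, hk2x]
  obtain ⟨u, hu, hub⟩ := S.exists_move hmv
  have hu' : u ∈ K := by
    have e : u = k2 * (k2⁻¹ * u * k2) * k2⁻¹ := by group
    have h2 : k2⁻¹ * u * k2 ∈ S.U x := by
      rw [← S.conj_mem_U_iff (g := k2), ← e, hk2x]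
      exact hu
    rw [e]
    exact K.mul_mem (K.mul_mem hk2 (hK h2)) (K.inv_mem hk2)
  set g := u * k2 with hg
  have hgK : g ∈ K := K.mul_mem hu' hk2
  have g0 : g • x = a2 := by rw [hg, mul_smul, hk2x, S.fix a2 u hu]
  have g3 : g • x3 = b1 := by rw [hg, mul_smul, hub]
  have g2 : g • a2 = b2 := by
    refine Δ.between_unique (v := cs.simple i * cs.simple j) (w := cs.simple i) (x := a2) (z := b1)
      (by rw [l3, l2, cs.length_simple]) ?_ ?_ h2b (sym hb1b)
    · have h := S.iso g x a2
      rw [g0] at h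
      rw [h, h02]
    · have h := S.iso g a2 x3
      rw [g3] at h
      rw [h, hx3]
  have g4 : g • b2 = x := by
    refine Δ.between_unique (v := cs.simple j * cs.simple i) (w := cs.simple j) (x := a2) (z := b1)
      (by rw [l3', l2', cs.length_simple]) ?_ ?_ ?_ hb1
    · have h := S.iso g x b2
      rw [g0] at h
      rw [h, hb2]
    · have h := S.iso g b2 x3
      rw [g3] at h
      rw [h, hb2x]
    · rw [Δ.symm, h02, mul_inv_rev, cs.inv_simple, cs.inv_simple]
  have hcube : g ^ 3 • x = x := by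
    rw [pow_succ, pow_two, mul_smul, mul_smul, g0, g2, g4]
  have hnex : g • x ≠ x := by
    rw [g0]
    intro h
    rw [h, (Δ.eq_one x x).2 rfl] at h02
    exact ne_one cs hne h02.symm
  have h3 : 3 ∣ orderOf g := by
    by_contra hcon
    have hco : Nat.Coprime 3 (orderOf g) := (Nat.Prime.coprime_iff_not_dvd Nat.prime_three).2 hcon
    obtain ⟨m, hm⟩ := exists_pow_eq_self_of_coprime hco
    apply hnex
    have hfix : ∀ n : ℕ, (g ^ 3) ^ n • x = x := by
      intro n
      induction n with
      | zero => rw [pow_zero, one_smul]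
      | succ n ih => rw [pow_succ, mul_smul, hcube, ih]
    have := hfix m
    rwa [hm] at this
  refine h3.trans ?_
  have h4 : orderOf (⟨g, hgK⟩ : K) = orderOf g := Subgroup.orderOf_mk g hgK
  rw [← h4]
  exact orderOf_dvd_natCard _

end Cfsg.Agent.H969.Rot
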